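import Mathlib
import Groth.Prelude.Def_KZero

/-!
# Basic API for the prelude's Grothendieck groups `KZero.K0sub`
-/

set_option autoImplicit false

namespace Groth.Agent.H17.K0

open CategoryTheory KZero

universe v u

section general

variable {C : Type u} [Category.{v} C] [Abelian C] (P : ObjectProperty C)

theorem clSub_of {X : C} (h : P X) :
    clSub P X = QuotientAddGroup.mk (FreeAbelianGroup.of ⟨X, h⟩) := dif_pos h

theorem clSub_of_not {X : C} (h : ¬ P X) : clSub P X = 0 := dif_neg h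

/-- additivity on short exact sequences -/
theorem clSub_shortExact (S : ShortComplex C) (hS : S.ShortExact) (h₁ : P S.X₁) (h₂ : P S.X₂)
    (h₃ : P S.X₃) : clSub P S.X₂ = clSub P S.X₁ + clSub P S.X₃ := by
  rw [clSub_of P h₁, clSub_of P h₂, clSub_of P h₃, ← QuotientAddGroup.mk_add,
    QuotientAddGroup.eq]
  have hmem : FreeAbelianGroup.of (⟨S.X₂, h₂⟩ : Subtype P) - FreeAbelianGroup.of ⟨S.X₁, h₁⟩ -
      FreeAbelianGroup.of ⟨S.X₃, h₃⟩ ∈ relSub P :=
    AddSubgroup.subset_closure ⟨S, h₁, h₂, h₃, hS, rfl⟩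
  have := (relSub P).neg_mem hmem
  convert this using 1
  abel

/-- the universal property of `K0sub` -/
noncomputable def lift {G : Type*} [AddCommGroup G] (f : Subtype P → G)
    (hf : ∀ (S : ShortComplex C) (h₁ : P S.X₁) (h₂ : P S.X₂) (h₃ : P S.X₃), S.ShortExact →
      f ⟨S.X₂, h₂⟩ = f ⟨S.X₁, h₁⟩ + f ⟨S.X₃, h₃⟩) : K0sub P →+ G :=
  QuotientAddGroup.lift (relSub P) (FreeAbelianGroup.lift f) (by
    rw [relSub, AddSubgroup.closure_le]
    rintro x ⟨S, h₁, h₂, h₃, hS, rfl⟩
    rw [SetLike.mem_coe, AddMonoidHom.mem_ker, map_sub, map_sub, FreeAbelianGroup.lift_apply_of,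
      FreeAbelianGroup.lift_apply_of, FreeAbelianGroup.lift_apply_of, hf S h₁ h₂ h₃ hS]
    abel)

theorem lift_clSub {G : Type*} [AddCommGroup G] (f : Subtype P → G)
    (hf : ∀ (S : ShortComplex C) (h₁ : P S.X₁) (h₂ : P S.X₂) (h₃ : P S.X₃), S.ShortExact →
      f ⟨S.X₂, h₂⟩ = f ⟨S.X₁, h₁⟩ + f ⟨S.X₃, h₃⟩) {X : C} (h : P X) :
    lift P f hf (clSub P X) = f ⟨X, h⟩ := by
  rw [clSub_of P h, lift, QuotientAddGroup.lift_mk, FreeAbelianGroup.lift_apply_of]

/-- `K0sub` is generated by the classes of objects -/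
theorem induction_on {p : K0sub P → Prop} (x : K0sub P) (h0 : p 0)
    (hcl : ∀ (X : C) (_ : P X), p (clSub P X)) (hneg : ∀ x, p x → p (-x))
    (hadd : ∀ x y, p x → p y → p (x + y)) : p x := by
  obtain ⟨y, rfl⟩ := QuotientAddGroup.mk_surjective x
  induction y using FreeAbelianGroup.induction_on with
  | zero => exact h0
  | of X =>
    have := hcl X.1 X.2
    rwa [clSub_of P X.2] at this
  | neg X ih => exact hneg _ ih
  | add x y hx hy => exact hadd _ _ hx hy

/-- two homomorphisms out of `K0sub` agreeing on classes are equal -/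
theorem hom_ext {G : Type*} [AddCommGroup G] (φ ψ : K0sub P →+ G)
    (h : ∀ (X : C) (_ : P X), φ (clSub P X) = ψ (clSub P X)) : φ = ψ := by
  refine AddMonoidHom.ext fun x => ?_
  induction x using induction_on P with
  | h0 => simp
  | hcl X hX => exact h X hX
  | hneg x hx => rw [map_neg, map_neg, hx]
  | hadd x y hx hy => rw [map_add, map_add, hx, hy]

end general

section modules

variable {A : Type u} [CommRing A] (P : ObjectProperty (ModuleCat.{u} A))

/-- additivity of classes along exact sequences of modules -/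
theorem clSub_module_exact {N₁ N₂ N₃ : Type u} [AddCommGroup N₁] [Module A N₁]
    [AddCommGroup N₂] [Module A N₂] [AddCommGroup N₃] [Module A N₃]
    (f : N₁ →ₗ[A] N₂) (g : N₂ →ₗ[A] N₃) (hf : Function.Injective f) (hg : Function.Surjective g)
    (hfg : Function.Exact f g) (h₁ : P (ModuleCat.of A N₁)) (h₂ : P (ModuleCat.of A N₂))
    (h₃ : P (ModuleCat.of A N₃)) :
    clSub P (ModuleCat.of A N₂) = clSub P (ModuleCat.of A N₁) + clSub P (ModuleCat.of A N₃) := by
  have h0 : g.comp f = 0 := by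
    ext x
    exact hfg.apply_apply_eq_zero x
  exact clSub_shortExact P (ModuleCat.shortComplexOfCompEqZero f g h0)
    (ModuleCat.shortComplex_shortExact _ hfg hf hg) h₁ h₂ h₃

/-- the class of a zero module vanishes -/
theorem clSub_module_subsingleton {N : Type u} [AddCommGroup N] [Module A N] [Subsingleton N]
    (h : P (ModuleCat.of A N)) : clSub P (ModuleCat.of A N) = 0 := by
  have := clSub_module_exact P (LinearMap.id : N →ₗ[A] N) (0 : N →ₗ[A] N)
    (fun _ _ h => h) (fun y => ⟨y, Subsingleton.elim _ _⟩)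
    (fun y => ⟨fun _ => ⟨y, rfl⟩, fun _ => Subsingleton.elim _ _⟩) h h h
  have h2 : clSub P (ModuleCat.of A N) + 0 = clSub P (ModuleCat.of A N) +
      clSub P (ModuleCat.of A N) := by rw [add_zero]; exact this
  exact (add_left_cancel h2).symm

/-- isomorphic modules have the same class -/
theorem clSub_module_equiv {N₁ N₂ : Type u} [AddCommGroup N₁] [Module A N₁]
    [AddCommGroup N₂] [Module A N₂] (e : N₁ ≃ₗ[A] N₂) (h₁ : P (ModuleCat.of A N₁))
    (h₂ : P (ModuleCat.of A N₂)) (h0 : P (ModuleCat.of A PUnit.{u + 1})) :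
    clSub P (ModuleCat.of A N₁) = clSub P (ModuleCat.of A N₂) := by
  have := clSub_module_exact P (e : N₁ →ₗ[A] N₂) (0 : N₂ →ₗ[A] PUnit.{u + 1})
    e.injective (fun y => ⟨0, Subsingleton.elim _ _⟩)
    (fun y => ⟨fun _ => ⟨e.symm y, by simp⟩, fun _ => Subsingleton.elim _ _⟩) h₁ h₂ h0
  rw [this, clSub_module_subsingleton P h0, add_zero]

end modules

end Groth.Agent.H17.K0
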